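import Mathlib

/-!
Minimal Frobenius groups `q^k : p`, with `k` the order of `q` modulo `p`.
-/

set_option autoImplicit false

namespace Cfsg.Agent.CriticalSpec

open Subgroup

variable (q p : ℕ) [hq : Fact q.Prime]

/-- The degree of the field. -/
noncomputable def deg : ℕ := orderOf (q : ZMod p)

/-- The field. -/
abbrev K : Type := GaloisField q (deg q p)

/-- Multiplication by a unit. -/
noncomputable def mulHom : (K q p)ˣ →* MulAut (Multiplicative (K q p)) :=
  { toFun := fun u =>
      { toFun := fun a => Multiplicative.ofAdd ((u : K q p) * a.toAdd)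
        invFun := fun a => Multiplicative.ofAdd (((u⁻¹ : (K q p)ˣ) : K q p) * a.toAdd)
        left_inv := fun a => by simp
        right_inv := fun a => by simp
        map_mul' := fun a b => by simp [mul_add] }
    map_one' := by ext a; simp
    map_mul' := fun u v => by ext a; simp [mul_assoc] }

/-- The complement. -/
noncomputable abbrev Cp : Subgroup (K q p)ˣ := (powMonoidHom p : (K q p)ˣ →* (K q p)ˣ).ker

/-- The action of the complement. -/
noncomputable abbrev act : Cp q p →* MulAut (Multiplicative (K q p)) := (mulHom q p).comp (Cp q p).subtype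

/-- The Frobenius group. -/
abbrev F : Type := Multiplicative (K q p) ⋊[act q p] Cp q p

instance : Finite (F q p) :=
  haveI : Finite (Multiplicative (K q p)) := inferInstanceAs (Finite (K q p))
  Finite.of_equiv _ SemidirectProduct.equivProd.symm

variable {q p}

theorem act_apply (t : Cp q p) (a : Multiplicative (K q p)) :
    (act q p t a).toAdd = ((t : (K q p)ˣ) : K q p) * a.toAdd := rfl

theorem Cp_pow (t : Cp q p) : ((t : (K q p)ˣ) : K q p) ^ p = 1 := by
  have := t.2
  rw [MonoidHom.mem_ker, powMonoidHom_apply] at this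
  rw [← Units.val_pow_eq_pow_val, this, Units.val_one]

theorem left_pow (x : F q p) (n : ℕ) : (x ^ n).left.toAdd =
    (∑ i ∈ Finset.range n, ((x.right : (K q p)ˣ) : K q p) ^ i) * x.left.toAdd ∧ (x ^ n).right = x.right ^ n := by
  induction n with
  | zero => simp
  | succ n ih =>
    refine ⟨?_, by rw [pow_succ, SemidirectProduct.mul_right, ih.2, pow_succ]⟩
    rw [pow_succ, SemidirectProduct.mul_left, toAdd_mul, act_apply, ih.1, ih.2, Finset.sum_range_succ, add_mul,
      SubgroupClass.coe_pow, Units.val_pow_eq_pow_val]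

theorem val_ne_one {t : Cp q p} (ht : t ≠ 1) : ((t : (K q p)ˣ) : K q p) ≠ 1 :=
  fun h => ht (Subtype.ext (Units.ext h))

theorem orderOf_of_right_ne [hp : Fact p.Prime] {x : F q p} (hx : x.right ≠ 1) : orderOf x = p := by
  refine orderOf_eq_prime ?_ fun h => hx (by rw [h]; rfl)
  obtain ⟨h1, h2⟩ := left_pow x p
  refine SemidirectProduct.ext ?_ ?_
  · apply Multiplicative.toAdd.injective
    rw [h1, geom_sum_eq (val_ne_one hx), Cp_pow, sub_self, zero_div, zero_mul]
    rfl
  · rw [h2]
    exact Subtype.ext (Units.ext (by simpa using Cp_pow x.right))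

theorem eq_inl {x : F q p} (hx : x.right = 1) : x = SemidirectProduct.inl x.left :=
  SemidirectProduct.ext rfl hx

theorem pow_q_of_right_eq {x : F q p} (hx : x.right = 1) : x ^ q = 1 := by
  rw [eq_inl hx, ← map_pow]
  have : x.left ^ q = 1 := by
    apply Multiplicative.toAdd.injective
    rw [toAdd_pow, nsmul_eq_mul, CharP.cast_eq_zero, zero_mul]
    rfl
  rw [this, map_one]

theorem orderOf_cases [Fact p.Prime] (x : F q p) : orderOf x = 1 ∨ orderOf x = p ∨ orderOf x = q := by
  by_cases hx : x.right = 1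
  · rcases (Nat.dvd_prime hq.out).1 (orderOf_dvd_of_pow_eq_one (pow_q_of_right_eq hx)) with h | h
    · exact Or.inl h
    · exact Or.inr (Or.inr h)
  · exact Or.inr (Or.inl (orderOf_of_right_ne hx))

theorem right_eq_of_pow [Fact p.Prime] (hqp : q ≠ p) {x : F q p} (hx : x ^ q = 1) : x.right = 1 := by
  by_contra h
  have := orderOf_of_right_ne h ▸ orderOf_dvd_of_pow_eq_one hx
  exact hqp ((Nat.prime_dvd_prime_iff_eq Fact.out hq.out).1 this).symm

theorem commute_of_pow [Fact p.Prime] (hqp : q ≠ p) {x y : F q p} (hx : x ^ q = 1) (hy : y ^ q = 1) :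
    (x * y) ^ q = 1 :=
  pow_q_of_right_eq (by rw [SemidirectProduct.mul_right, right_eq_of_pow hqp hx, right_eq_of_pow hqp hy, one_mul])

theorem deg_pos [Fact p.Prime] (hqp : q ≠ p) : 0 < deg q p := by
  have h0 : (q : ZMod p) ≠ 0 := by
    rw [Ne, ZMod.natCast_eq_zero_iff]
    exact fun h => hqp ((Nat.prime_dvd_prime_iff_eq Fact.out hq.out).1 h).symm
  exact orderOf_pos_iff.2 (isOfFinOrder_iff_pow_eq_one.2 ⟨p - 1, by
    have := (Fact.out : p.Prime).two_le; omega, ZMod.pow_card_sub_one_eq_one h0⟩)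

theorem exists_root [Fact p.Prime] (hqp : q ≠ p) : ∃ t : Cp q p, t ≠ 1 := by
  have hd : p ∣ Nat.card (K q p)ˣ := by
    rw [Nat.card_units, GaloisField.card q _ (deg_pos hqp).ne', ← ZMod.natCast_eq_zero_iff,
      Nat.cast_sub (Nat.one_le_pow _ _ hq.out.pos), Nat.cast_pow, Nat.cast_one, deg, pow_orderOf_eq_one, sub_self]
  obtain ⟨u, hu⟩ := exists_prime_orderOf_dvd_card' p hd
  refine ⟨⟨u, by rw [MonoidHom.mem_ker, powMonoidHom_apply]; exact orderOf_dvd_iff_pow_eq_one.1 hu.dvd⟩, fun h => ?_⟩
  have : u = 1 := congrArg Subtype.val h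
  rw [this, orderOf_one] at hu
  exact (Fact.out : p.Prime).one_lt.ne hu

theorem exists_orderOf [Fact p.Prime] (hqp : q ≠ p) :
    (∃ x : F q p, orderOf x = p) ∧ ∃ x : F q p, orderOf x = q := by
  obtain ⟨t, ht⟩ := exists_root (p := p) hqp
  refine ⟨⟨SemidirectProduct.inr t, orderOf_of_right_ne (by simpa using ht)⟩,
    ⟨SemidirectProduct.inl (Multiplicative.ofAdd 1), orderOf_eq_prime (pow_q_of_right_eq (by simp)) fun h => ?_⟩⟩
  have := congrArg (fun z : F q p => z.left.toAdd) h
  simp at this

/-- An additive subgroup stable under a nontrivial `p`-th root of unity is trivial or everything. -/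
theorem addSubgroup_eq_top [Fact p.Prime] {t : Cp q p} (ht : t ≠ 1) (S : AddSubgroup (K q p)) {a : K q p}
    (ha : a ∈ S) (ha0 : a ≠ 0) (hS : ∀ c ∈ S, ((t : (K q p)ˣ) : K q p) * c ∈ S) (c : K q p) : c ∈ S := by
  classical
  let R : Subring (K q p) :=
    { carrier := {r | ∀ d ∈ S, r * d ∈ S}
      one_mem' := fun d hd => by rwa [one_mul]
      zero_mem' := fun d _ => by rw [zero_mul]; exact S.zero_mem
      add_mem' := fun {r r'} hr hr' d hd => by rw [add_mul]; exact S.add_mem (hr d hd) (hr' d hd)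
      neg_mem' := fun {r} hr d hd => by rw [neg_mul]; exact S.neg_mem (hr d hd)
      mul_mem' := fun {r r'} hr hr' d hd => by rw [mul_assoc]; exact hr _ (hr' d hd) }
  letI : Fintype R := Fintype.ofFinite R
  letI : Field R := Fintype.fieldOfDomain R
  haveI : CharP R q := inferInstance
  obtain ⟨⟨d, hd⟩, -, hcard⟩ := FiniteField.card R q
  let u : R := ⟨((t : (K q p)ˣ) : K q p), hS⟩
  have huo : orderOf u = p := orderOf_eq_prime (Subtype.ext (Cp_pow t)) fun h => val_ne_one ht (congrArg Subtype.val h)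
  have hu0 : u ≠ 0 := fun h => (t : (K q p)ˣ).ne_zero (congrArg Subtype.val h)
  have hdvd : p ∣ q ^ d - 1 := by
    have := orderOf_dvd_of_pow_eq_one (FiniteField.pow_card_sub_one_eq_one u hu0)
    rwa [huo, hcard] at this
  have hq1 : ((q : ZMod p) ^ d) = 1 := by
    rw [← ZMod.natCast_eq_zero_iff, Nat.cast_sub (Nat.one_le_pow _ _ hq.out.pos), Nat.cast_pow, Nat.cast_one,
      sub_eq_zero] at hdvd
    exact hdvd
  have hle : deg q p ≤ d := Nat.le_of_dvd hd (orderOf_dvd_of_pow_eq_one hq1)
  have hpos : deg q p ≠ 0 := fun h => by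
    have h0 : (q : ZMod p) ≠ 0 := fun h' => by rw [h', zero_pow hd.ne'] at hq1; exact zero_ne_one hq1
    exact orderOf_eq_zero_iff'.1 h (p - 1) (by have := (Fact.out : p.Prime).two_le; omega)
      (ZMod.pow_card_sub_one_eq_one h0)
  have hR : R.toAddSubgroup = ⊤ := AddSubgroup.eq_top_of_le_card _ (by
    rw [GaloisField.card q _ hpos, show Nat.card R.toAddSubgroup = Nat.card R from rfl, Nat.card_eq_fintype_card, hcard]
    exact Nat.pow_le_pow_right hq.out.pos hle)
  have : c * a⁻¹ ∈ R.toAddSubgroup := hR ▸ AddSubgroup.mem_top _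
  simpa [mul_assoc, inv_mul_cancel₀ ha0] using this a ha

/-- The kernel part of a subgroup. -/
noncomputable def kerPart (H : Subgroup (F q p)) : AddSubgroup (K q p) :=
  Subgroup.toAddSubgroup' (H.comap SemidirectProduct.inl)

theorem mem_kerPart {H : Subgroup (F q p)} {a : K q p} :
    a ∈ kerPart H ↔ SemidirectProduct.inl (Multiplicative.ofAdd a) ∈ H := Iff.rfl

theorem conj_inl (x : F q p) (a : K q p) : x * SemidirectProduct.inl (Multiplicative.ofAdd a) * x⁻¹ =
    SemidirectProduct.inl (Multiplicative.ofAdd (((x.right : (K q p)ˣ) : K q p) * a)) := by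
  refine mul_inv_eq_iff_eq_mul.2 ?_
  refine SemidirectProduct.ext ?_ (by simp)
  rw [SemidirectProduct.mul_left, SemidirectProduct.mul_left, SemidirectProduct.left_inl, SemidirectProduct.right_inl,
    map_one, MulAut.one_apply, SemidirectProduct.left_inl]
  exact mul_comm _ _

/-- A subgroup with elements of both orders is everything. -/
theorem eq_top [hp : Fact p.Prime] (hqp : q ≠ p) (H : Subgroup (F q p)) {x y : F q p} (hx : x ∈ H) (hy : y ∈ H)
    (hxo : orderOf x = p) (hyo : orderOf y = q) : H = ⊤ := by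
  have hx1 : x.right ≠ 1 := fun h => by
    have := orderOf_dvd_of_pow_eq_one (pow_q_of_right_eq h)
    rw [hxo] at this
    exact hqp ((Nat.prime_dvd_prime_iff_eq hp.out hq.out).1 this).symm
  have hy1 : y.right = 1 := right_eq_of_pow hqp (orderOf_dvd_iff_pow_eq_one.1 hyo.dvd)
  have hy0 : y.left.toAdd ≠ 0 := fun h => by
    have : y = 1 := SemidirectProduct.ext (Multiplicative.toAdd.injective h) hy1
    rw [this, orderOf_one] at hyo; exact hq.out.one_lt.ne hyo
  have hall : ∀ c : K q p, SemidirectProduct.inl (Multiplicative.ofAdd c) ∈ H := fun c => by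
    refine addSubgroup_eq_top hx1 (kerPart H) (a := y.left.toAdd) ?_ hy0 (fun c hc => ?_) c
    · show SemidirectProduct.inl y.left ∈ H
      rwa [← eq_inl hy1]
    · rw [mem_kerPart] at hc ⊢
      rw [← conj_inl]
      exact H.mul_mem (H.mul_mem hx hc) (H.inv_mem hx)
  refine eq_top_iff.2 fun z _ => ?_
  obtain ⟨i, -, hi⟩ := (IsPrimitiveRoot.iff (hp.out.pos) |>.2 ⟨Cp_pow x.right, fun l hl hlp h =>
    absurd (orderOf_dvd_of_pow_eq_one h) (by
      rw [orderOf_eq_prime (Cp_pow x.right) (val_ne_one hx1)]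
      exact Nat.not_dvd_of_pos_of_lt hl hlp)⟩).eq_pow_of_pow_eq_one (Cp_pow z.right)
  have hr : (z * (x ^ i)⁻¹).right = 1 := by
    rw [SemidirectProduct.mul_right, SemidirectProduct.inv_right, (left_pow x i).2, mul_inv_eq_one]
    exact Subtype.ext (Units.ext (by simpa using hi.symm))
  have h2 : z * (x ^ i)⁻¹ ∈ H := by
    rw [eq_inl hr]
    exact hall (z * (x ^ i)⁻¹).left.toAdd
  simpa using H.mul_mem h2 (H.pow_mem hx i)

/-- A nontrivial normal subgroup contains every element killed by `q`. -/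
theorem mem_of_normal [hp : Fact p.Prime] (hqp : q ≠ p) (N : Subgroup (F q p)) [N.Normal] {x : F q p} (hx : x ∈ N)
    (hx1 : x ≠ 1) {y : F q p} (hy : y ^ q = 1) : y ∈ N := by
  have hy1 : y.right = 1 := right_eq_of_pow hqp hy
  obtain ⟨t, ht⟩ := exists_root (p := p) hqp
  obtain ⟨a, ha, ha0⟩ : ∃ a : K q p, SemidirectProduct.inl (Multiplicative.ofAdd a) ∈ N ∧ a ≠ 0 := by
    by_cases h : x.right = 1
    · exact ⟨x.left.toAdd, (eq_inl h) ▸ hx, fun h0 => hx1 (SemidirectProduct.ext (Multiplicative.toAdd.injective h0) h)⟩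
    · refine ⟨((x.right : (K q p)ˣ) : K q p) - 1, ?_, sub_ne_zero.2 (val_ne_one h)⟩
      have h1 : x * SemidirectProduct.inl (Multiplicative.ofAdd (1 : K q p)) * x⁻¹ *
          (SemidirectProduct.inl (Multiplicative.ofAdd (1 : K q p)))⁻¹ ∈ N := by
        have := N.mul_mem hx ((inferInstance : N.Normal).conj_mem _ (N.inv_mem hx)
          (SemidirectProduct.inl (Multiplicative.ofAdd (1 : K q p))))
        simpa [mul_assoc] using this
      rw [conj_inl, mul_one, ← map_inv, ← map_mul] at h1
      convert h1 using 2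
      simp [sub_eq_add_neg]
  rw [eq_inl hy1]
  refine addSubgroup_eq_top ht (kerPart N) (mem_kerPart.2 ha) ha0 (fun c hc => ?_) y.left.toAdd
  have := (inferInstance : N.Normal).conj_mem _ (mem_kerPart.1 hc) (SemidirectProduct.inr t)
  rw [conj_inl] at this
  simpa [mem_kerPart] using this

/-- The elements killed by `p` are not closed under products. -/
theorem not_closed [Fact p.Prime] (hqp : q ≠ p) :
    ∃ x y : F q p, x ^ p = 1 ∧ y ^ p = 1 ∧ (x * y) ^ p ≠ 1 := by
  obtain ⟨t, ht⟩ := exists_root (p := p) hqp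
  set b : F q p := SemidirectProduct.inl (Multiplicative.ofAdd (1 : K q p))
  have h1 : ((b * SemidirectProduct.inr t⁻¹ : F q p)).right ≠ 1 := by simpa [b] using ht
  have h2 : ((SemidirectProduct.inr t : F q p)).right ≠ 1 := by simpa using ht
  refine ⟨b * SemidirectProduct.inr t⁻¹, SemidirectProduct.inr t, ?_, ?_, ?_⟩
  · exact orderOf_dvd_iff_pow_eq_one.1 (orderOf_of_right_ne h1).dvd
  · exact orderOf_dvd_iff_pow_eq_one.1 (orderOf_of_right_ne h2).dvd
  · rw [mul_assoc, ← map_mul, inv_mul_cancel, map_one, mul_one]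
    intro h
    have := (left_pow b p).1
    rw [h] at this
    simp [b] at this
    exact absurd this.symm (fun h' => by
      rw [← Nat.cast_zero, eq_comm] at h'
      have hdvd := (CharP.cast_eq_zero_iff (K q p) q p).1 (by simpa using h'.symm)
      exact hqp ((Nat.prime_dvd_prime_iff_eq hq.out Fact.out).1 hdvd))

end Cfsg.Agent.CriticalSpec
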